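import Groth.Agent.VBCurve.K705.RamDeg
import Groth.Agent.VBCurve.K708.PullGal
import Groth.Prelude.Def_Curve

/-!
# Dominant morphisms between smooth curves of the same genus are étale (S15101/END, node N1)
-/

set_option autoImplicit false
universe u
open CategoryTheory CategoryTheory.Limits AlgebraicGeometry TopologicalSpace

namespace K980.SameGenus

open Groth.Agent K707.Base K707.Deg K705.Cov

theorem isClosed_singleton {X : Scheme.{u}} [IsIntegral X] (hX : topologicalKrullDim X ≤ 1) (x : X)
    (hx : x ≠ genericPoint X) : IsClosed ({x} : Set X) := by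
  rw [← closure_subset_iff_isClosed]
  intro w hw
  have hxw : x ⤳ w := specializes_iff_mem_closure.mpr hw
  by_contra hne
  have h1 : genericPoint X ⤳ x := genericPoint_specializes x
  have h2 : ¬ x ⤳ genericPoint X := fun h => hx (h.antisymm h1).eq
  have h3 : ¬ w ⤳ x := fun h => hne (h.antisymm hxw).eq
  let c : X → TopologicalSpace.IrreducibleCloseds X := fun z =>
    ⟨closure {z}, isIrreducible_singleton.closure, isClosed_closure⟩
  have hc : ∀ a b : X, b ⤳ a → ¬ a ⤳ b → c a < c b := by
    intro a b hab hba
    refine lt_of_le_not_ge ?_ fun h => hba ?_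
    · exact hab.closure_subset
    · exact specializes_iff_closure_subset.mpr h
  let q : LTSeries (TopologicalSpace.IrreducibleCloseds X) :=
    { length := 2
      toFun := ![c w, c x, c (genericPoint X)]
      step := by
        intro i
        fin_cases i
        · exact hc _ _ hxw h3
        · exact hc _ _ h1 h2 }
  have h4 : (2 : WithBot ℕ∞) ≤ topologicalKrullDim X := Order.LTSeries.length_le_krullDim q
  exact absurd (h4.trans hX) (by decide)

/-- Closed sets not containing the generic point are finite. -/
theorem finite_of_isClosed {X : Scheme.{u}} [IsIntegral X] [IsNoetherian X] (hX : topologicalKrullDim X ≤ 1)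
    {A : Set X} (hA : IsClosed A) (hη : genericPoint X ∉ A) : A.Finite := by
  obtain ⟨T, hT, h1, h2, rfl⟩ := NoetherianSpace.exists_finite_set_isClosed_irreducible hA
  refine hT.sUnion fun t ht => ?_
  obtain ⟨x, hx⟩ := QuasiSober.sober (h2 t ht) (h1 t ht)
  have hxt : x ∈ t := hx.mem
  have hne : x ≠ genericPoint X := by
    rintro rfl
    exact hη ⟨t, ht, hxt⟩
  have h3 : t = {x} := by
    rw [← hx.def, (isClosed_singleton hX x hne).closure_eq]
  rw [h3]
  exact Set.finite_singleton x

/-- A proper dominant morphism from a curve to a curve is finite. -/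
theorem isFinite_of_dominant {F E : Scheme.{u}} [IsIntegral F] [IsNoetherian F] [IsIntegral E] (θ : F ⟶ E)
    [IsProper θ] [IsDominant θ] (hF : topologicalKrullDim F ≤ 1) (hE : topologicalKrullDim E = 1) :
    IsFinite θ := by
  have hdense : closure (Set.range θ.base) = Set.univ := θ.denseRange.closure_range
  have hne : ∀ s : E, s ≠ genericPoint E → genericPoint F ∉ θ.base ⁻¹' closure {s} := by
    intro s hs h
    have h1 : IsClosed (θ.base ⁻¹' closure {s}) := isClosed_closure.preimage θ.continuous
    have h2 : Set.univ ⊆ θ.base ⁻¹' closure {s} := by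
      rw [← genericPoint_closure F]
      exact h1.closure_subset_iff.mpr (Set.singleton_subset_iff.mpr h)
    have h3 : Set.univ ⊆ closure {s} := by
      rw [← hdense]
      refine isClosed_closure.closure_subset_iff.mpr ?_
      rintro _ ⟨x, rfl⟩
      exact h2 (Set.mem_univ x)
    exact hs ((specializes_iff_mem_closure.mpr (h3 (Set.mem_univ _))).antisymm (genericPoint_specializes s)).eq
  have h1 : LocallyQuasiFinite θ := by
    apply LocallyQuasiFinite.of_finite_preimage_singleton
    intro s
    by_cases hs : s = genericPoint E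
    · subst hs
      refine (Set.finite_singleton (genericPoint F)).subset fun x hx => ?_
      by_contra hxne
      have h2 := θ.isClosedMap _ (isClosed_singleton hF x hxne)
      rw [Set.image_singleton] at h2
      have h3 : θ x = genericPoint E := hx
      rw [h3] at h2
      have h4 : ∀ y : E, y = genericPoint E := by
        intro y
        have h5 : y ∈ closure {genericPoint E} := by rw [genericPoint_closure]; trivial
        rw [h2.closure_eq] at h5
        exact h5
      have h6 : Subsingleton E := ⟨fun a b => (h4 a).trans (h4 b).symm⟩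
      have h7 : Subsingleton (IrreducibleCloseds E) := ⟨fun A B => by
        apply IrreducibleCloseds.ext
        have key : ∀ A : IrreducibleCloseds E, (A : Set E) = Set.univ := fun A => by
          obtain ⟨a, ha⟩ := A.isIrreducible.nonempty
          ext z
          simp only [Set.mem_univ, iff_true]
          rwa [Subsingleton.elim z a]
        rw [key A, key B]⟩
      have h8 : topologicalKrullDim E ≤ 0 := Order.krullDim_nonpos_of_subsingleton
      rw [hE] at h8
      exact absurd h8 (by decide)
    · exact (finite_of_isClosed hF (isClosed_closure.preimage θ.continuous) (hne s hs)).subset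
        (Set.preimage_mono subset_closure)
  exact IsFinite.of_isProper_of_locallyQuasiFinite θ

/-- **A dominant morphism between smooth proper curves of the same genus `g ≥ 1` in characteristic zero is finite
étale.** -/
theorem etale_of_genus_eq (k : Type u) [Field k] [IsAlgClosed k] [CharZero k] {F E : Scheme.{u}}
    (p : F ⟶ Spec (CommRingCat.of k)) (q : E ⟶ Spec (CommRingCat.of k)) (hF : Curve.IsSmoothProperCurve k F p)
    (hE : Curve.IsSmoothProperCurve k E q) (θ : F ⟶ E) (hθ : θ ≫ q = p) (hdom : IsDominant θ)
    (hg : @Curv2.genus k _ F ⟨p⟩ = @Curv2.genus k _ E ⟨q⟩) (hg1 : 1 ≤ @Curv2.genus k _ E ⟨q⟩) :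
    IsFinite θ ∧ Etale θ := by
  obtain ⟨p1, p2, p3, p4⟩ := hF
  obtain ⟨q1, q2, q3, q4⟩ := hE
  let oF : F.Over (Spec (CommRingCat.of k)) := ⟨p⟩
  let oE : E.Over (Spec (CommRingCat.of k)) := ⟨q⟩
  have p1' : IsProper (F ↘ Spec (CommRingCat.of k)) := p1
  have p2' : Smooth (F ↘ Spec (CommRingCat.of k)) := p2
  have q1' : IsProper (E ↘ Spec (CommRingCat.of k)) := q1
  have q2' : Smooth (E ↘ Spec (CommRingCat.of k)) := q2
  have hprop : IsProper θ := by
    have : IsProper (θ ≫ q) := by rw [hθ]; exact p1
    exact IsProper.of_comp θ q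
  have hNF : IsNoetherian F := isNoetherian k
  have hfin : IsFinite θ := isFinite_of_dominant θ p4.le q4
  have cF : Crv k F := Crv.of_smooth p4
  have cE : Crv k E := Crv.of_smooth q4
  have hflat : Flat θ := K708.PullGal.flat_of θ cE
  obtain ⟨n, h⟩ := K708.PullGal.exists_isCov (k := k) θ hθ cF cE
  have hn := K708.PullGal.pos_of h
  refine ⟨hfin, ?_⟩
  have het : Etale θ := by
    by_contra hne
    have h1 := K705.RamDeg.dg_push_of_not_etale h hne
    rw [dg, h.euler_push (CurvesB.UnitCoh.isCoh_structureModule F).1, rk_of_rank h.rank,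
      K703.Chi.euler_structure k p4, K703.Chi.euler_structure k q4] at h1
    have h2 : (Curv2.genus k F : ℤ) = Curv2.genus k E := by exact_mod_cast hg
    have h3 : (1 : ℤ) ≤ Curv2.genus k E := by exact_mod_cast hg1
    have h4 : (1 : ℤ) ≤ n := by exact_mod_cast hn
    rw [h2] at h1
    nlinarith
  exact het

/-- The same with `Smooth`. -/
theorem smooth_of_genus_eq (k : Type u) [Field k] [IsAlgClosed k] [CharZero k] {F E : Scheme.{u}}
    (p : F ⟶ Spec (CommRingCat.of k)) (q : E ⟶ Spec (CommRingCat.of k)) (hF : Curve.IsSmoothProperCurve k F p)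
    (hE : Curve.IsSmoothProperCurve k E q) (θ : F ⟶ E) (hθ : θ ≫ q = p) (hdom : IsDominant θ)
    (hg : @Curv2.genus k _ F ⟨p⟩ = @Curv2.genus k _ E ⟨q⟩) (hg1 : 1 ≤ @Curv2.genus k _ E ⟨q⟩) :
    IsFinite θ ∧ Smooth θ := by
  obtain ⟨h1, h2⟩ := etale_of_genus_eq k p q hF hE θ hθ hdom hg hg1
  exact ⟨h1, inferInstance⟩

end K980.SameGenus
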